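import Mathlib
import Cfsg.Prelude.Def_ConjugacyFunctors

theorem Eqns.E_Cfsg_kSeqOdd_eq_def : type_of% @Cfsg.kSeqOdd.eq_def := @Cfsg.kSeqOdd.eq_def
theorem Eqns.E_Cfsg_kSeqOdd_e1 : type_of% @Cfsg.kSeqOdd.eq_1 := @Cfsg.kSeqOdd.eq_1
theorem Eqns.E_Cfsg_kSeqOdd_e2 : type_of% @Cfsg.kSeqOdd.eq_2 := @Cfsg.kSeqOdd.eq_2
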