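import Mathlib

theorem Eqns.E_Subgroup_lowerCentralSeries_eq_def : type_of% @Subgroup.lowerCentralSeries.eq_def := @Subgroup.lowerCentralSeries.eq_def
theorem Eqns.E_Subgroup_lowerCentralSeries_e1 : type_of% @Subgroup.lowerCentralSeries.eq_1 := @Subgroup.lowerCentralSeries.eq_1
theorem Eqns.E_Subgroup_lowerCentralSeries_e2 : type_of% @Subgroup.lowerCentralSeries.eq_2 := @Subgroup.lowerCentralSeries.eq_2
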